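import Groth.Agent.Lib.DimForm6.Main
import Groth.Agent.Lib.DimForm6.Dim

/-!
# Horizontal elements when the closed fibre is small
-/

set_option autoImplicit false
set_option linter.style.haveILetI false
set_option backward.isDefEq.respectTransparency false

universe u

open IsLocalRing

namespace GrothLib.HorizFib6

/-- The fibre dimension of a local algebra is bounded by transcendence degrees at the minimal primes. -/
theorem exists_dim_add_trdeg_le {A B : Type u} [CommRing A] [CommRing B] [IsLocalRing A] [IsLocalRing B]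
    [Algebra A B] [IsLocalHom (algebraMap A B)] [Algebra.EssFiniteType A B] (r : ℕ)
    (hr : ∀ p : Ideal B, p.IsPrime → Ideal.map (algebraMap A B) (maximalIdeal A) ≤ p →
      ∃ (F : Type u) (_ : Field F) (ψ : B →+* F) (φ : ResidueField A →+* F), RingHom.ker ψ = p ∧
        φ.comp (residue A) = ψ.comp (algebraMap A B) ∧
        (letI := φ.toAlgebra; Algebra.trdeg (ResidueField A) F) ≤ r) :
    ∃ d e : ℕ, ringKrullDim (B ⧸ Ideal.map (algebraMap A B) (maximalIdeal A)) = d ∧
      Algebra.trdeg (ResidueField A) (ResidueField B) = e ∧ d + e ≤ r := by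
  classical
  let I := Ideal.map (algebraMap A B) (maximalIdeal A)
  have hI : I ≤ maximalIdeal B := Ideal.map_le_iff_le_comap.2 fun a ha => (map_mem_nonunits_iff (algebraMap A B) a).2 ha
  have key : ∀ p ∈ I.minimalPrimes, ∃ h e : ℕ, ringKrullDim (B ⧸ p) = h ∧
      Algebra.trdeg (ResidueField A) (ResidueField B) = e ∧ h + e ≤ r := by
    intro p hp
    haveI : p.IsPrime := hp.1.1
    have hcp : ∀ a ∈ maximalIdeal A, algebraMap A B a ∈ p := fun a ha => hp.1.2 (Ideal.mem_map_of_mem _ ha)
    let φ : ResidueField A →+* B ⧸ p := Ideal.Quotient.lift _ (algebraMap A (B ⧸ p)) fun a ha => by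
      rw [← Ideal.Quotient.mk_algebraMap]
      exact Ideal.Quotient.eq_zero_iff_mem.2 (hcp a ha)
    letI : Algebra (ResidueField A) (B ⧸ p) := φ.toAlgebra
    haveI : IsScalarTower A (ResidueField A) (B ⧸ p) := IsScalarTower.of_algebraMap_eq fun a => rfl
    haveI : Algebra.EssFiniteType (ResidueField A) (B ⧸ p) := Algebra.EssFiniteType.of_comp A (ResidueField A) (B ⧸ p)
    haveI : IsLocalRing (B ⧸ p) := IsLocalRing.of_surjective' (Ideal.Quotient.mk p) Ideal.Quotient.mk_surjective
    haveI : FaithfulSMul (ResidueField A) (B ⧸ p) :=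
      (faithfulSMul_iff_algebraMap_injective _ _).2 φ.injective
    obtain ⟨h, e, t, hh, he, ht, hsum⟩ :=
      GrothLib.DimForm6.ringKrullDim_add_trdeg_residueField (ResidueField A) (B ⧸ p)
    refine ⟨h, e, hh, ?_, ?_⟩
    · rw [← he]
      haveI : IsLocalHom (Ideal.Quotient.mk p) := IsLocalHom.of_surjective _ Ideal.Quotient.mk_surjective
      letI : Algebra (ResidueField B) (ResidueField (B ⧸ p)) := (ResidueField.map (Ideal.Quotient.mk p)).toAlgebra
      haveI : IsScalarTower (ResidueField A) (ResidueField B) (ResidueField (B ⧸ p)) :=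
        IsScalarTower.of_algebraMap_eq fun a => by
          obtain ⟨a, rfl⟩ := residue_surjective a
          rfl
      haveI : FaithfulSMul (ResidueField B) (ResidueField (B ⧸ p)) :=
        (faithfulSMul_iff_algebraMap_injective _ _).2 (ResidueField.map (Ideal.Quotient.mk p)).injective
      refine GrothLib.DimForm6.trdeg_eq_of_fractions fun y => ?_
      obtain ⟨y, rfl⟩ := residue_surjective y
      obtain ⟨y, rfl⟩ := Ideal.Quotient.mk_surjective y
      exact ⟨residue B y, 1, one_ne_zero, by rw [map_one, one_mul]; rfl⟩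
    · obtain ⟨F, _, ψ, φF, hker, hcomm, hF⟩ := hr p inferInstance hp.1.2
      letI : Algebra (ResidueField A) F := φF.toAlgebra
      let j : B ⧸ p →ₐ[ResidueField A] F :=
        { Ideal.Quotient.lift p ψ (fun y hy => by rwa [← hker] at hy) with
          commutes' := fun a => by
            obtain ⟨a, rfl⟩ := residue_surjective a
            exact (DFunLike.congr_fun hcomm a).symm }
      have hj : Function.Injective j := (injective_iff_map_eq_zero j).2 fun y hy => by
        obtain ⟨y, rfl⟩ := Ideal.Quotient.mk_surjective y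
        exact Ideal.Quotient.eq_zero_iff_mem.2 (hker ▸ RingHom.mem_ker.2 hy)
      have h3 : (t : Cardinal.{u}) ≤ r := by
        rw [← ht]
        exact (trdeg_le_of_injective j hj).trans hF
      have : t ≤ r := by exact_mod_cast h3
      omega
  obtain ⟨p₀, hp₀, -⟩ := Ideal.exists_minimalPrimes_le hI
  obtain ⟨-, e, -, he, -⟩ := key p₀ hp₀
  have hle : ∀ l : LTSeries (PrimeSpectrum (B ⧸ I)), l.length + e ≤ r := by
    intro l
    have hle : I ≤ l.head.asIdeal.comap (Ideal.Quotient.mk I) := fun y hy => by
      rw [Ideal.mem_comap, Ideal.Quotient.eq_zero_iff_mem.2 hy]; exact zero_mem _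
    obtain ⟨p, hp, hpl⟩ := Ideal.exists_minimalPrimes_le hle
    obtain ⟨d', e', hd', he', hsum'⟩ := key p hp
    have hee : e' = e := by exact_mod_cast he'.symm.trans he
    let f : B ⧸ I →+* B ⧸ p := Ideal.Quotient.factor hp.1.2
    have hker : ∀ i, RingHom.ker f ≤ (l i).asIdeal := fun i y hy => by
      obtain ⟨y, rfl⟩ := Ideal.Quotient.mk_surjective y
      rw [RingHom.mem_ker, Ideal.Quotient.factor_mk, Ideal.Quotient.eq_zero_iff_mem] at hy
      exact (show l.head.asIdeal ≤ (l i).asIdeal from LTSeries.head_le l i) (hpl hy)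
    let l' : LTSeries (PrimeSpectrum (B ⧸ p)) :=
      { length := l.length
        toFun := fun i => ⟨(l i).asIdeal.map f,
          Ideal.map_isPrime_of_surjective (Ideal.Quotient.factor_surjective hp.1.2) (hker i)⟩
        step := fun i => by
          refine lt_of_le_of_ne (Ideal.map_mono (l.step i).le) fun h => (l.step i).ne (PrimeSpectrum.ext ?_)
          have h' := congrArg (Ideal.comap f) (show ((l i.castSucc).asIdeal.map f) = (l i.succ).asIdeal.map f from h)
          simp only [Ideal.comap_map_of_surjective f (Ideal.Quotient.factor_surjective hp.1.2),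
            ← RingHom.ker_eq_comap_bot, sup_eq_left.2 (hker _)] at h'
          exact h' }
    have hl : (l.length : WithBot ℕ∞) ≤ (d' : WithBot ℕ∞) := by
      rw [← hd']
      exact le_iSup (fun l : LTSeries (PrimeSpectrum (B ⧸ p)) => (l.length : WithBot ℕ∞)) l'
    have : l.length ≤ d' := by exact_mod_cast hl
    omega
  haveI : Nontrivial (B ⧸ I) := Ideal.Quotient.nontrivial_iff.2 fun h => (maximalIdeal.isMaximal B).ne_top
    (top_le_iff.1 (h ▸ hI))
  have hfin : ringKrullDim (B ⧸ I) ≤ ((r - e : ℕ) : WithBot ℕ∞) := by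
    rw [ringKrullDim, Order.krullDim]
    refine iSup_le fun l => ?_
    have := hle l
    exact (Nat.cast_le (α := WithBot ℕ∞)).2 (by omega)
  obtain ⟨d, hd⟩ : ∃ d : ℕ, ringKrullDim (B ⧸ I) = d := by
    obtain ⟨b, hb⟩ := WithBot.ne_bot_iff_exists.1
      (ne_bot_of_le_ne_bot (WithBot.coe_ne_bot (a := (0 : ℕ∞))) (ringKrullDim_nonneg_of_nontrivial (R := B ⧸ I)))
    rw [← hb] at hfin ⊢
    have hbt : b ≠ ⊤ := fun h => by
      rw [h] at hfin
      exact absurd (WithBot.coe_le_coe.1 hfin) (by simp)
    obtain ⟨d, rfl⟩ := ENat.ne_top_iff_exists.1 hbt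
    exact ⟨d, rfl⟩
  refine ⟨d, e, hd, he, ?_⟩
  rw [hd] at hfin
  have : d ≤ r - e := by exact_mod_cast hfin
  have := hle (RelSeries.singleton _ (Classical.arbitrary _))
  omega

end GrothLib.HorizFib6
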