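import Groth.Agent.Lib.HorizFib6.Alg
import Groth.Agent.Lib.SuppDim6.Main

/-!
# Fibres of locally principal subschemes missing the generic fibre
-/

set_option autoImplicit false
set_option linter.style.haveILetI false
set_option backward.isDefEq.respectTransparency false

universe u

open CategoryTheory AlgebraicGeometry TopologicalSpace

namespace GrothLib.HorizFib6

variable {X S : Scheme.{u}}

/-- Evaluation of a germ at a generalisation. -/
noncomputable def evalGen {y x : X} (h : y ⤳ x) : X.presheaf.stalk x →+* X.residueField y :=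
  (X.presheaf.stalkSpecializes h ≫ X.residue y).hom

theorem evalGen_germ {y x : X} (h : y ⤳ x) (U : X.Opens) (hx : x ∈ U) (a : Γ(X, U)) :
    evalGen h (X.presheaf.germ U x hx a) = X.residue y (X.presheaf.germ U y (h.mem_open U.2 hx) a) := by
  show (X.presheaf.stalkSpecializes h ≫ X.residue y).hom _ = _
  rw [← TopCat.Presheaf.germ_stalkSpecializes (F := X.presheaf) hx h]
  rfl

/-- The residue field at a generalisation consists of fractions. -/
theorem evalGen_fractions {y x : X} (h : y ⤳ x) (z : X.residueField y) :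
    ∃ a d : X.presheaf.stalk x, evalGen h d ≠ 0 ∧ z * evalGen h d = evalGen h a := by
  obtain ⟨s, rfl⟩ := X.residue_surjective y z
  obtain ⟨_, ⟨V, hV, rfl⟩, hxV, -⟩ :=
    X.isBasis_affineOpens.exists_subset_of_mem_open (Set.mem_univ x) isOpen_univ
  have hV : IsAffineOpen V := hV
  have hyV : y ∈ V := h.mem_open V.2 hxV
  haveI := hV.isLocalization_stalk ⟨y, hyV⟩
  letI := X.presheaf.algebra_section_stalk (⟨y, hyV⟩ : V)
  obtain ⟨⟨a, d⟩, hd⟩ := IsLocalization.surj (hV.primeIdealOf ⟨y, hyV⟩).asIdeal.primeCompl s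
  refine ⟨X.presheaf.germ V x hxV a, X.presheaf.germ V x hxV d.1, ?_, ?_⟩
  · rw [evalGen_germ]
    intro h0
    exact ((IsLocalRing.residue_eq_zero_iff _).1 h0)
      (IsLocalization.map_units (M := (hV.primeIdealOf ⟨y, hyV⟩).asIdeal.primeCompl) (X.presheaf.stalk y) d)
  · rw [evalGen_germ, evalGen_germ, ← map_mul]
    exact congrArg _ hd

theorem evalGen_stalkMap (f : X ⟶ S) {y x : X} (h : y ⤳ x) :
    (evalGen h).comp (f.stalkMap x).hom = (f.residueFieldMap y).hom.comp (evalGen (h.map f.continuous)) := by
  have hcomm : f.stalkMap x ≫ X.presheaf.stalkSpecializes h ≫ X.residue y =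
      (S.presheaf.stalkSpecializes (h.map f.continuous) ≫ S.residue (f y)) ≫ f.residueFieldMap y := by
    rw [← Scheme.Hom.stalkSpecializes_stalkMap_assoc, Category.assoc, Scheme.residue_residueFieldMap]
  exact congrArg CommRingCat.Hom.hom hcomm

theorem ker_evalGen_mono {y z x : X} (hzy : z ⤳ y) (hy : y ⤳ x) :
    RingHom.ker (evalGen (hzy.trans hy)) ≤ RingHom.ker (evalGen hy) := by
  intro a ha
  obtain ⟨q, hq⟩ := X.range_fromSpecStalk.ge hy
  obtain ⟨q', hq'⟩ := X.range_fromSpecStalk.ge (hzy.trans hy)
  rw [evalGen, GrothLib.SuppDim6.ker_toResidue_eq x q' hq' (hzy.trans hy)] at ha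
  rw [evalGen, GrothLib.SuppDim6.ker_toResidue_eq x q hq hy]
  refine (PrimeSpectrum.le_iff_specializes q' q).2 ?_ ha
  rw [← (X.fromSpecStalk x).isEmbedding.isInducing.specializes_iff, hq, hq']
  exact hzy

/-- In a quasi-sober space the closure of a point without proper generalisations is a component. -/
theorem closure_mem_irreducibleComponents {T : Type*} [TopologicalSpace T] [QuasiSober T] [T0Space T] {ξ : T}
    (h : ∀ z : T, z ⤳ ξ → z = ξ) : closure ({ξ} : Set T) ∈ irreducibleComponents T := by
  refine ⟨isIrreducible_singleton.closure, fun s hs hle => ?_⟩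
  have h1 := hs.isGenericPoint_genericPoint_closure
  have h2 : hs.genericPoint = ξ := h _ (h1.specializes (subset_closure (hle (subset_closure rfl))))
  have h3 : closure ({hs.genericPoint} : Set T) = closure s := h1.def
  rw [← h2, h3]
  exact subset_closure

variable (f : X ⟶ S) [IrreducibleSpace ↑S] [IrreducibleSpace ↑X] [IsDominant f] [LocallyOfFiniteType f]

theorem exists_component_subset (x : X)
    (hdim : topologicalKrullDim ↑(f.fiber (f x)) ≤ topologicalKrullDim ↑(f.fiber (genericPoint ↑S)))
    (Z : X.IdealSheafData) (hZ : ∀ x : X, ∃ (U : X.Opens) (hU : IsAffineOpen U) (g : Γ(X, U)), x ∈ U ∧ Z.ideal ⟨U, hU⟩ = Ideal.span {g})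
    (hη : ∀ x ∈ (Z.support : Set ↑X), f x ≠ genericPoint ↑S) (hx : x ∈ (Z.support : Set ↑X)) :
    ∃ C ∈ irreducibleComponents ↑(f ⁻¹' {f x}), (⟨x, rfl⟩ : ↑(f ⁻¹' {f x})) ∈ C ∧
      Subtype.val '' C ⊆ (Z.support : Set ↑X) := by
  classical
  obtain ⟨U, hU, g, hxU, hg⟩ := hZ x
  have hsupp : ∀ y, ∀ hy : y ∈ U, (y ∈ (Z.support : Set X) ↔ X.residue y (X.presheaf.germ U y hy g) = 0) := by
    intro y hy
    have h1 := Set.ext_iff.1 (Z.coe_support_inter ⟨U, hU⟩) y
    simp only [Set.mem_inter_iff, hg, Scheme.zeroLocus_span, SetLike.mem_coe, hy, and_true] at h1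
    rw [SetLike.mem_coe, h1, Scheme.mem_zeroLocus_iff]
    constructor
    · intro h
      exact (IsLocalRing.residue_eq_zero_iff _).2 fun hu => h g rfl ((Scheme.mem_basicOpen _ g y hy).2 hu)
    · rintro h a rfl ha
      exact (IsLocalRing.residue_eq_zero_iff _).1 h ((Scheme.mem_basicOpen _ a y hy).1 ha)
  let A := S.presheaf.stalk (f x)
  let O := X.presheaf.stalk x
  letI : Algebra A O := (f.stalkMap x).hom.toAlgebra
  haveI : IsLocalHom (algebraMap A O) := inferInstanceAs (IsLocalHom (f.stalkMap x).hom)
  haveI : Algebra.EssFiniteType A O := LocallyOfFiniteType.stalkMap f x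
  let I : Ideal O := Ideal.map (algebraMap A O) (IsLocalRing.maximalIdeal A)
  -- a prime over the closed point gives a point of the fibre
  have hpt : ∀ (q : Spec O), I ≤ q.asIdeal → f (X.fromSpecStalk x q) = f x := by
    intro q hq
    have hyx : X.fromSpecStalk x q ⤳ x := X.range_fromSpecStalk.le ⟨q, rfl⟩
    have hk := GrothLib.SuppDim6.ker_toResidue_eq x q rfl hyx
    obtain ⟨w, hw⟩ := S.range_fromSpecStalk.ge (hyx.map f.continuous)
    have hw' := GrothLib.SuppDim6.ker_toResidue_eq (f x) w hw (hyx.map f.continuous)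
    have hle : IsLocalRing.maximalIdeal A ≤ w.asIdeal := by
      intro a ha
      rw [← hw', RingHom.mem_ker]
      refine (f.residueFieldMap (X.fromSpecStalk x q)).hom.injective ?_
      rw [map_zero, ← RingHom.comp_apply]
      change ((f.residueFieldMap (X.fromSpecStalk x q)).hom.comp (evalGen (hyx.map f.continuous))) a = 0
      rw [← evalGen_stalkMap]
      show evalGen hyx (algebraMap A O a) = 0
      rw [← RingHom.mem_ker, evalGen, hk]
      exact hq (Ideal.mem_map_of_mem _ ha)
    rw [← hw, show w = IsLocalRing.closedPoint A from PrimeSpectrum.ext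
      ((le_antisymm hle (IsLocalRing.le_maximalIdeal w.isPrime.ne_top)).symm), Scheme.fromSpecStalk_closedPoint]
  by_cases hcase : ∃ q ∈ I.minimalPrimes, X.presheaf.germ U x hxU g ∈ q
  · obtain ⟨q, hq, hgq⟩ := hcase
    let y := X.fromSpecStalk x ⟨q, hq.1.1⟩
    have hyx : y ⤳ x := X.range_fromSpecStalk.le ⟨_, rfl⟩
    have hfy : f y = f x := hpt _ hq.1.2
    have hyU : y ∈ U := hyx.mem_open U.2 hxU
    have hyZ : y ∈ (Z.support : Set X) := by
      rw [hsupp y hyU, ← evalGen_germ hyx U hxU g, ← RingHom.mem_ker, evalGen,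
        GrothLib.SuppDim6.ker_toResidue_eq x ⟨q, hq.1.1⟩ rfl hyx]
      exact hgq
    haveI : QuasiSober ↑(f ⁻¹' {f x}) := (f.fiberHomeo (f x)).symm.isClosedEmbedding.quasiSober
    refine ⟨closure {⟨y, hfy⟩}, closure_mem_irreducibleComponents fun z hz => ?_, ?_, ?_⟩
    · have hzy : z.1 ⤳ y := hz.map continuous_subtype_val
      obtain ⟨q', hq'⟩ := X.range_fromSpecStalk.ge (hzy.trans hyx)
      have hle : q'.asIdeal ≤ q := by
        refine (PrimeSpectrum.le_iff_specializes q' ⟨q, hq.1.1⟩).2 ?_
        rw [← (X.fromSpecStalk x).isEmbedding.isInducing.specializes_iff, hq']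
        exact hzy
      have hIq : I ≤ q'.asIdeal := by
        rw [Ideal.map_le_iff_le_comap]
        intro a ha
        rw [Ideal.mem_comap, ← GrothLib.SuppDim6.ker_toResidue_eq x q' hq' (hzy.trans hyx), RingHom.mem_ker]
        show ((evalGen (hzy.trans hyx)).comp (f.stalkMap x).hom) a = 0
        rw [evalGen_stalkMap, RingHom.comp_apply]
        have : evalGen ((hzy.trans hyx).map f.continuous) a = 0 := by
          rw [← RingHom.mem_ker, evalGen, GrothLib.SuppDim6.ker_toResidue_eq (f x) (IsLocalRing.closedPoint A)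
            (Scheme.fromSpecStalk_closedPoint.trans z.2.symm) ((hzy.trans hyx).map f.continuous)]
          exact ha
        rw [this, map_zero]
      have heq : q' = ⟨q, hq.1.1⟩ := PrimeSpectrum.ext (le_antisymm hle (hq.2 ⟨q'.isPrime, hIq⟩ hle))
      exact Subtype.ext (by rw [← hq', heq])
    · rw [closure_subtype, Set.image_singleton]
      exact hyx.mem_closure
    · rintro _ ⟨w, hw, rfl⟩
      rw [closure_subtype, Set.image_singleton] at hw
      exact closure_minimal (Set.singleton_subset_iff.2 hyZ) Z.support.isClosed hw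
  · push_neg at hcase
    exfalso
    let ηX := genericPoint ↑X
    have hηx : ηX ⤳ x := genericPoint_specializes x
    have hfη : f ηX = genericPoint ↑S := by
      have h1 : IsGenericPoint (f ηX) Set.univ := by
        have := (genericPoint_spec ↑X).image f.continuous
        rwa [Set.image_univ, f.denseRange.closure_range] at this
      exact h1.eq (genericPoint_spec ↑S)
    let σ : A →+* S.residueField (f ηX) := evalGen (hηx.map f.continuous)
    let NA : Ideal A := RingHom.ker σ
    let NO : Ideal O := RingHom.ker (evalGen hηx)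
    haveI : NA.IsPrime := RingHom.ker_isPrime _
    haveI : NO.IsPrime := RingHom.ker_isPrime _
    have hN : NA = NO.comap (algebraMap A O) := by
      show RingHom.ker σ = Ideal.comap (f.stalkMap x).hom (RingHom.ker (evalGen hηx))
      rw [RingHom.comap_ker, evalGen_stalkMap, RingHom.ker_comp_of_injective _ (RingHom.injective _)]
    let A' := A ⧸ NA
    let B := O ⧸ NO
    letI : Algebra A' B := (Ideal.quotientMap NO (algebraMap A O) hN.le).toAlgebra
    haveI : IsScalarTower A A' B := IsScalarTower.of_algebraMap_eq (R := A) (S := A') (A := B) fun _ => rfl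
    haveI : FaithfulSMul A' B := (faithfulSMul_iff_algebraMap_injective _ _).2
      (Ideal.quotientMap_injective' hN.ge)
    haveI : IsLocalRing A' := IsLocalRing.of_surjective' (Ideal.Quotient.mk NA) Ideal.Quotient.mk_surjective
    haveI : IsLocalRing B := IsLocalRing.of_surjective' (Ideal.Quotient.mk NO) Ideal.Quotient.mk_surjective
    haveI : IsLocalHom (Ideal.Quotient.mk NA) := IsLocalHom.of_surjective _ Ideal.Quotient.mk_surjective
    haveI : IsLocalHom (Ideal.Quotient.mk NO) := IsLocalHom.of_surjective _ Ideal.Quotient.mk_surjective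
    haveI : IsLocalHom (algebraMap A' B) := ⟨fun a ha => by
      obtain ⟨a, rfl⟩ := Ideal.Quotient.mk_surjective a
      exact (IsUnit.of_map (algebraMap A O) a (IsUnit.of_map (Ideal.Quotient.mk NO) _ ha)).map _⟩
    haveI : Algebra.EssFiniteType A' B := Algebra.EssFiniteType.of_comp A A' B
    -- all minimal primes contain the nilradical
    have hNle : ∀ q : Ideal O, q.IsPrime → NO ≤ q := fun q hq => by
      have hyx : X.fromSpecStalk x ⟨q, hq⟩ ⤳ x := X.range_fromSpecStalk.le ⟨_, rfl⟩
      have h := ker_evalGen_mono (genericPoint_specializes (X.fromSpecStalk x ⟨q, hq⟩)) hyx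
      rw [show RingHom.ker (evalGen hyx) = q from GrothLib.SuppDim6.ker_toResidue_eq x ⟨q, hq⟩ rfl hyx] at h
      exact h
    have hIB : Ideal.map (algebraMap A' B) (IsLocalRing.maximalIdeal A') = I.map (Ideal.Quotient.mk NO) := by
      have hm : IsLocalRing.maximalIdeal A' = (IsLocalRing.maximalIdeal A).map (Ideal.Quotient.mk NA) := by
        refine le_antisymm (fun a ha => ?_) (Ideal.map_le_iff_le_comap.2 fun a ha =>
          (map_mem_nonunits_iff (Ideal.Quotient.mk NA) a).2 ha)
        obtain ⟨a, rfl⟩ := Ideal.Quotient.mk_surjective a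
        exact Ideal.mem_map_of_mem _ ((map_mem_nonunits_iff (Ideal.Quotient.mk NA) a).1 ha)
      rw [hm, Ideal.map_map, Ideal.map_map]
      rfl
    -- the generic fibre dimension
    obtain ⟨r, hr, hrdim⟩ := GrothLib.Altitude.exists_trdeg_eq_dim_closure f ηX
    have hgen : topologicalKrullDim ↑(f.fiber (genericPoint ↑S)) = r := by
      rw [← hfη, ← hrdim]
      have : closure ({f.asFiber ηX} : Set (f.fiber (f ηX))) = Set.univ :=
        Set.eq_univ_of_forall fun z => by
          rw [← specializes_iff_mem_closure, ← (f.fiberι _).isEmbedding.isInducing.specializes_iff, f.fiberι_asFiber]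
          exact genericPoint_specializes _
      rw [this]
      exact (IsHomeomorph.topologicalKrullDim_eq _ (Homeomorph.Set.univ _).isHomeomorph).symm
    have hrB : (r : Cardinal.{u}) = Algebra.trdeg A' B := by
      rw [← hr]
      refine (GrothLib.Altitude.trdeg_congr_hom (f.residueFieldMap ηX).hom (RingHom.kerLift σ)
        (RingHom.kerLift (evalGen hηx)) ?_ (RingHom.kerLift_injective _) (RingHom.kerLift_injective _) ?_ ?_).symm
      · refine Ideal.Quotient.ringHom_ext (RingHom.ext fun a => ?_)
        exact (DFunLike.congr_fun (evalGen_stalkMap f hηx) a).symm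
      · intro z
        obtain ⟨a, d, hd, hz⟩ := evalGen_fractions (hηx.map f.continuous) z
        exact ⟨Ideal.Quotient.mk _ a, Ideal.Quotient.mk _ d, hd, hz⟩
      · intro z
        obtain ⟨a, d, hd, hz⟩ := evalGen_fractions hηx z
        exact ⟨Ideal.Quotient.mk _ a, Ideal.Quotient.mk _ d, hd, hz⟩
    obtain ⟨d, e, hd, he, hde⟩ := exists_dim_add_trdeg_le (A := A') (B := B) r fun p hp hle => by
      haveI := hp
      let q : Spec O := ⟨p.comap (Ideal.Quotient.mk NO), inferInstance⟩
      have hIq : I ≤ q.asIdeal := by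
        rw [hIB, Ideal.map_le_iff_le_comap] at hle
        exact hle
      let y := X.fromSpecStalk x q
      have hyx : y ⤳ x := X.range_fromSpecStalk.le ⟨_, rfl⟩
      have hfy : f y = f x := hpt q hIq
      have hkq : RingHom.ker (evalGen hyx) = q.asIdeal := GrothLib.SuppDim6.ker_toResidue_eq x q rfl hyx
      let ψ : B →+* X.residueField y := Ideal.Quotient.lift NO (evalGen hyx) fun a ha => by
        rw [← RingHom.mem_ker, hkq]; exact hNle _ q.isPrime ha
      have hkill : ∀ a ∈ IsLocalRing.maximalIdeal A', ψ.comp (algebraMap A' B) a = 0 := fun a ha => by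
        have : algebraMap A' B a ∈ p := hle (Ideal.mem_map_of_mem _ ha)
        obtain ⟨b, hb⟩ := Ideal.Quotient.mk_surjective (algebraMap A' B a)
        rw [RingHom.comp_apply, ← hb]
        show evalGen hyx b = 0
        rw [← RingHom.mem_ker, hkq]
        show Ideal.Quotient.mk NO b ∈ p
        rwa [hb]
      refine ⟨X.residueField y, inferInstance, ψ,
        Ideal.Quotient.lift _ (ψ.comp (algebraMap A' B)) hkill, ?_, RingHom.ext fun a => rfl, ?_⟩
      · ext b
        obtain ⟨b, rfl⟩ := Ideal.Quotient.mk_surjective b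
        show evalGen hyx b = 0 ↔ _
        rw [← RingHom.mem_ker, hkq]
        rfl
      · obtain ⟨n, hn, hndim⟩ := GrothLib.Altitude.exists_trdeg_eq_dim_closure f y
        have hnr : n ≤ r := by
          have h1 : (n : WithBot ℕ∞) ≤ topologicalKrullDim ↑(f.fiber (f x)) := by
            rw [← hndim, ← hfy]
            exact topologicalKrullDim_subspace_le _ _
          exact_mod_cast h1.trans (hdim.trans hgen.le)
        refine le_trans (le_of_eq ?_) (Nat.cast_le.2 hnr)
        rw [← hn]
        let φ' : A →+* S.residueField (f y) := evalGen (hyx.map f.continuous)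
        have hk : ∀ a ∈ NA, φ' a = 0 := fun a ha => by
          refine (f.residueFieldMap y).hom.injective ?_
          rw [map_zero]
          show ((f.residueFieldMap y).hom.comp (evalGen (hyx.map f.continuous))) a = 0
          rw [← evalGen_stalkMap f hyx, RingHom.comp_apply, ← RingHom.mem_ker, hkq]
          exact hNle _ q.isPrime (by rw [hN] at ha; exact ha)
        let κ' : IsLocalRing.ResidueField A' →+* S.residueField (f y) :=
          Ideal.Quotient.lift _ (Ideal.Quotient.lift NA φ' hk) fun a ha => by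
            obtain ⟨a, rfl⟩ := Ideal.Quotient.mk_surjective a
            refine (f.residueFieldMap y).hom.injective ?_
            rw [map_zero]
            show ((f.residueFieldMap y).hom.comp (evalGen (hyx.map f.continuous))) a = 0
            rw [← evalGen_stalkMap]
            exact hkill _ ha
        have hsurj : Function.Surjective κ' := fun z => by
          obtain ⟨a, d, hd, hz⟩ := evalGen_fractions (hyx.map f.continuous) z
          let κa : A → IsLocalRing.ResidueField A' := fun a => IsLocalRing.residue A' (Ideal.Quotient.mk NA a)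
          have hκ : ∀ a, κ' (κa a) = φ' a := fun a => rfl
          refine ⟨κa a / κa d, ?_⟩
          rw [map_div₀, hκ, hκ, ← hz, mul_div_assoc, div_self hd, mul_one]
        letI : Algebra (IsLocalRing.ResidueField A') (X.residueField y) :=
          RingHom.toAlgebra (Ideal.Quotient.lift _ (ψ.comp (algebraMap A' B)) hkill)
        haveI : FaithfulSMul (IsLocalRing.ResidueField A') (X.residueField y) :=
          (faithfulSMul_iff_algebraMap_injective _ _).2 (RingHom.injective _)
        refine GrothLib.Altitude.trdeg_congr_hom (f.residueFieldMap y).hom κ' (RingHom.id _) ?_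
          (RingHom.injective _) Function.injective_id (fun z => ?_) (fun z => ⟨z, 1, one_ne_zero, mul_one z⟩)
        · refine Ideal.Quotient.ringHom_ext (Ideal.Quotient.ringHom_ext (RingHom.ext fun a => ?_))
          exact (DFunLike.congr_fun (evalGen_stalkMap f hyx) a).symm
        · obtain ⟨a, rfl⟩ := hsurj z
          exact ⟨a, 1, by simp, by simp⟩
    have hgB : Ideal.Quotient.mk NO (X.presheaf.germ U x hxU g) ∈ IsLocalRing.maximalIdeal B := by
      refine (map_mem_nonunits_iff (Ideal.Quotient.mk NO) _).2 ?_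
      exact (IsLocalRing.residue_eq_zero_iff _).1 ((hsupp x hxU).1 hx)
    have hinj := GrothLib.DimForm6.injective_of_horizontal_le (A := A') (Ideal.Quotient.mk NO (X.presheaf.germ U x hxU g))
      hgB (fun p hp hgp => by
        haveI := hp.1.1
        refine hcase (p.comap (Ideal.Quotient.mk NO)) ⟨⟨inferInstance, ?_⟩, fun q' hq' hle => ?_⟩ hgp
        · rw [← Ideal.map_le_iff_le_comap, ← hIB]; exact hp.1.2
        · have hN' := hNle q' hq'.1
          have hp' : q'.map (Ideal.Quotient.mk NO) ≤ p := Ideal.map_le_iff_le_comap.2 hle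
          haveI := hq'.1
          have h2 : p ≤ q'.map (Ideal.Quotient.mk NO) := hp.2
            ⟨Ideal.isPrime_map_quotientMk_of_isPrime hN', by rw [hIB]; exact Ideal.map_mono hq'.2⟩ hp'
          intro b hb
          have h3 : Ideal.Quotient.mk NO b ∈ q'.map (Ideal.Quotient.mk NO) := h2 hb
          rw [← Ideal.mem_comap, Ideal.comap_map_of_surjective _ Ideal.Quotient.mk_surjective,
            ← RingHom.ker_eq_comap_bot, Ideal.mk_ker, sup_eq_left.2 hN'] at h3
          exact h3)
      d e hd he (hrB ▸ Nat.cast_le.2 hde)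
    -- a prime over the generic point containing `g`
    let C := B ⧸ Ideal.span {Ideal.Quotient.mk NO (X.presheaf.germ U x hxU g)}
    have hker : RingHom.ker (algebraMap A' C) = ⊥ := (RingHom.injective_iff_ker_eq_bot _).1 hinj
    obtain ⟨Q, hQ, hQ'⟩ := Ideal.exists_comap_eq_of_mem_minimalPrimes (f := algebraMap A' C) (I := ⊥) ⊥
      (by rw [← RingHom.ker_eq_comap_bot, hker, Ideal.minimalPrimes]; exact ⟨⟨Ideal.isPrime_bot, le_rfl⟩, fun p _ _ => bot_le⟩)
    haveI := hQ
    let q : Spec O := ⟨(Q.comap (Ideal.Quotient.mk _)).comap (Ideal.Quotient.mk NO), inferInstance⟩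
    let y := X.fromSpecStalk x q
    have hyx : y ⤳ x := X.range_fromSpecStalk.le ⟨_, rfl⟩
    have hkq : RingHom.ker (evalGen hyx) = q.asIdeal := GrothLib.SuppDim6.ker_toResidue_eq x q rfl hyx
    refine hη y ?_ ?_
    · rw [hsupp y (hyx.mem_open U.2 hxU), ← evalGen_germ hyx U hxU g, ← RingHom.mem_ker, hkq]
      show Ideal.Quotient.mk _ (Ideal.Quotient.mk NO (X.presheaf.germ U x hxU g)) ∈ Q
      rw [Ideal.Quotient.eq_zero_iff_mem.2 (Ideal.mem_span_singleton_self _)]
      exact zero_mem Q
    · obtain ⟨w, hw⟩ := S.range_fromSpecStalk.ge (hyx.map f.continuous)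
      obtain ⟨w₀, hw₀⟩ := S.range_fromSpecStalk.ge (hηx.map f.continuous)
      have hw' := GrothLib.SuppDim6.ker_toResidue_eq (f x) w hw (hyx.map f.continuous)
      have hw₀' := GrothLib.SuppDim6.ker_toResidue_eq (f x) w₀ hw₀ (hηx.map f.continuous)
      have : w = w₀ := PrimeSpectrum.ext (by
        rw [← hw₀', show RingHom.ker (S.presheaf.stalkSpecializes (hηx.map f.continuous) ≫ S.residue (f ηX)).hom = NA from rfl, ← hw']
        ext a
        rw [RingHom.mem_ker, ← map_eq_zero_iff _ (f.residueFieldMap y).hom.injective]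
        change ((f.residueFieldMap y).hom.comp (evalGen (hyx.map f.continuous))) a = 0 ↔ a ∈ NA
        rw [← evalGen_stalkMap f hyx, RingHom.comp_apply, ← RingHom.mem_ker, hkq]
        show algebraMap A' C (Ideal.Quotient.mk NA a) ∈ Q ↔ _
        rw [← Ideal.mem_comap, hQ'.2, Ideal.mem_bot, Ideal.Quotient.eq_zero_iff_mem])
      rw [← hw, this, hw₀, hfη]

end GrothLib.HorizFib6
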